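import Mathlib

/-! Global sections of products over a field: `Γ(X ×ₖ T) = Γ(X) ⊗ₖ Γ(T)` for `X` quasi-compact
(not necessarily quasi-separated) and `T` affine. -/

set_option autoImplicit false
universe u

open TensorProduct CategoryTheory CategoryTheory.Limits AlgebraicGeometry TopologicalSpace

namespace Groth.Agent.MiscTwoH99.GammaProd

/-- tensoring a jointly injective family with a free module keeps it jointly injective -/
theorem lTensor_jointly_injective {R : Type*} [CommRing R] {M N : Type*} [AddCommGroup M]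
    [Module R M] [Module.Free R M] [AddCommGroup N] [Module R N] {ι : Type*} {N' : ι → Type*}
    [∀ i, AddCommGroup (N' i)] [∀ i, Module R (N' i)] (ψ : ∀ i, N →ₗ[R] N' i)
    (h : ∀ n, (∀ i, ψ i n = 0) → n = 0) (x : M ⊗[R] N)
    (hx : ∀ i, LinearMap.lTensor M (ψ i) x = 0) : x = 0 := by
  classical
  let b := Module.Free.chooseBasis R M
  have nat : ∀ (i : ι) (y : M ⊗[R] N) (j : Module.Free.ChooseBasisIndex R M),
      TensorProduct.equivFinsuppOfBasisLeft b (LinearMap.lTensor M (ψ i) y) j =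
        ψ i (TensorProduct.equivFinsuppOfBasisLeft b y j) := by
    intro i y j
    induction y using TensorProduct.induction_on with
    | zero => simp
    | tmul m n => simp [TensorProduct.equivFinsuppOfBasisLeft_apply_tmul_apply]
    | add a c ha hc => simp only [map_add, Finsupp.add_apply, ha, hc]
  apply (TensorProduct.equivFinsuppOfBasisLeft b).injective
  ext j
  rw [map_zero, Finsupp.zero_apply]
  refine h _ fun i => ?_
  rw [← nat i x j, hx i, map_zero, Finsupp.zero_apply]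

/-- joint injectivity of pushouts along a free ring map -/
theorem pushout_jointly_injective {R C A P : CommRingCat.{u}} {ι : Type*} {A' P' : ι → CommRingCat.{u}}
    {φ : R ⟶ C} {a : R ⟶ A} {l : C ⟶ P} {r : A ⟶ P} (h : IsPushout φ a l r)
    (hfree : letI := φ.hom.toAlgebra; Module.Free R C)
    (ψ : ∀ i, A ⟶ A' i) (hψ : ∀ n, (∀ i, (ψ i).hom n = 0) → n = 0)
    {l' : ∀ i, C ⟶ P' i} {r' : ∀ i, A' i ⟶ P' i} (h' : ∀ i, IsPushout φ (a ≫ ψ i) (l' i) (r' i))
    (m : ∀ i, P ⟶ P' i) (hl : ∀ i, l ≫ m i = l' i) (hr : ∀ i, r ≫ m i = ψ i ≫ r' i)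
    (x : P) (hx : ∀ i, (m i).hom x = 0) : x = 0 := by
  letI := φ.hom.toAlgebra
  letI := a.hom.toAlgebra
  letI : ∀ i, Algebra R (A' i) := fun i => (a ≫ ψ i).hom.toAlgebra
  haveI : Module.Free R C := hfree
  let ψ' : ∀ i, A →ₐ[R] A' i := fun i => { (ψ i).hom with commutes' := fun _ => rfl }
  have t := CommRingCat.isPushout_tensorProduct R C A
  have t' := fun i => CommRingCat.isPushout_tensorProduct R C (A' i)
  let e : CommRingCat.of (C ⊗[R] A) ⟶ P := t.desc l r h.w
  let d : P ⟶ CommRingCat.of (C ⊗[R] A) := h.desc _ _ t.w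
  have de : d ≫ e = 𝟙 P := by
    apply h.hom_ext
    · rw [h.inl_desc_assoc, t.inl_desc, Category.comp_id]
    · rw [h.inr_desc_assoc, t.inr_desc, Category.comp_id]
  suffices d.hom x = 0 by
    have h2 := congrArg (fun f : P ⟶ P => f.hom x) de
    simp only [CommRingCat.hom_comp, RingHom.comp_apply, this, map_zero] at h2
    exact h2.symm
  refine lTensor_jointly_injective (fun i => (ψ' i).toLinearMap) hψ _ fun i => ?_
  have key : d ≫ CommRingCat.ofHom
      (Algebra.TensorProduct.map (AlgHom.id R C) (ψ' i)).toRingHom =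
      m i ≫ (h' i).desc _ _ (t' i).w := by
    apply h.hom_ext
    · rw [h.inl_desc_assoc, reassoc_of% hl, (h' i).inl_desc]
      ext c
      show Algebra.TensorProduct.map (AlgHom.id R C) (ψ' i) (c ⊗ₜ[R] (1 : A)) = c ⊗ₜ[R] (1 : A' i)
      simp
    · rw [h.inr_desc_assoc, reassoc_of% hr, (h' i).inr_desc]
      ext c
      show Algebra.TensorProduct.map (AlgHom.id R C) (ψ' i) ((1 : C) ⊗ₜ[R] c) = (1 : C) ⊗ₜ[R] ψ' i c
      simp
  have h3 : Algebra.TensorProduct.map (AlgHom.id R C) (ψ' i) (d.hom x) = 0 := by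
    have h2 := congrArg (fun f : P ⟶ CommRingCat.of (C ⊗[R] A' i) => f.hom x) key
    simp only [CommRingCat.hom_comp, RingHom.comp_apply, hx, map_zero] at h2
    exact h2
  exact h3

/-- For `X` quasi-compact and `T` affine over the spectrum `S` of a field, global sections of
`X ×ₛ T` are the tensor product of the global sections. -/
theorem isPushout_appTop {S X T P : Scheme.{u}} [IsAffine S] (hS : IsField Γ(S, ⊤)) [CompactSpace X]
    [IsAffine T] {g : P ⟶ X} {iY : P ⟶ T} {iX : X ⟶ S} {f : T ⟶ S} (H : IsPullback g iY iX f) :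
    IsPushout iX.appTop f.appTop g.appTop iY.appTop := by
  have hUS : IsAffineOpen (⊤ : S.Opens) := isAffineOpen_top S
  have hUT : IsAffineOpen (⊤ : T.Opens) := isAffineOpen_top T
  have hUST : (⊤ : T.Opens) ≤ f ⁻¹ᵁ ⊤ := by simp
  have le : ∀ W : X.Opens, W ≤ iX ⁻¹ᵁ ⊤ := fun W x _ => trivial
  have haff : ∀ (W : X.Opens) (hW : IsAffineOpen W),
      IsIso (pushoutSection H hUST (le W) rfl) := fun W hW =>
    isIso_pushoutSection_of_isAffineOpen H hUST (le W) rfl hUS hUT hW
  have hfree : letI := (f.appLE ⊤ ⊤ hUST).hom.toAlgebra; Module.Free Γ(S, ⊤) Γ(T, ⊤) := by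
    letI := hS.toField
    letI := (f.appLE ⊤ ⊤ hUST).hom.toAlgebra
    exact Module.Free.of_divisionRing _ _
  have hflat : (f.appLE ⊤ ⊤ hUST).hom.Flat := by
    letI := (f.appLE ⊤ ⊤ hUST).hom.toAlgebra
    haveI : Module.Free Γ(S, ⊤) Γ(T, ⊤) := hfree
    show Module.Flat Γ(S, ⊤) Γ(T, ⊤)
    infer_instance
  have hmono : ∀ W : X.Opens, Mono (pushoutSection H hUST (le W) rfl) := by
    intro W
    refine ConcreteCategory.mono_of_injective _ ?_
    change Function.Injective (pushoutSection H hUST (le W) rfl).hom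
    rw [injective_iff_map_eq_zero]
    intro x hx
    let V : {V : X.Opens // IsAffineOpen V ∧ V ≤ W} → X.Opens := fun i => i.1
    have sq := (IsPushout.of_hasPushout (iX.appLE ⊤ W (le W)) (f.appLE ⊤ ⊤ hUST)).flip
    have sq' := fun i : {V : X.Opens // IsAffineOpen V ∧ V ≤ W} =>
      ((isIso_pushoutSection_iff H hUST (le i.1) rfl).1 (haff i.1 i.2.1)).flip
    refine pushout_jointly_injective sq hfree
      (fun i : {V : X.Opens // IsAffineOpen V ∧ V ≤ W} => X.presheaf.map (homOfLE i.2.2).op)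
      ?_ (fun i => by rw [Scheme.Hom.appLE_map]; exact sq' i)
      (fun i => pushoutSection H hUST (le W) rfl ≫
        P.presheaf.map (homOfLE (show g ⁻¹ᵁ i.1 ⊓ iY ⁻¹ᵁ ⊤ ≤ g ⁻¹ᵁ W ⊓ iY ⁻¹ᵁ ⊤ from
          inf_le_inf_right _ (g.preimage_mono i.2.2))).op)
      (fun i => ?_) (fun i => ?_) x (fun i => ?_)
    · intro s hs
      apply X.IsSheaf.section_ext
      intro p hp
      obtain ⟨_, ⟨V, hV, rfl⟩, hpV, hVW⟩ :=
        X.isBasis_affineOpens.exists_subset_of_mem_open hp W.isOpen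
      exact ⟨V, hVW, hpV, (hs ⟨V, hV, hVW⟩).trans (map_zero _).symm⟩
    · rw [pushout.inr_desc_assoc, Scheme.Hom.appLE_map]
    · rw [pushout.inl_desc_assoc, Scheme.Hom.appLE_map, Scheme.Hom.map_appLE]
    · simp only [CommRingCat.hom_comp, RingHom.comp_apply, hx, map_zero]
  obtain ⟨s, hsf, hs⟩ := (isCompact_and_isOpen_iff_finite_and_eq_biUnion_affineOpens
    (U := (Set.univ : Set X))).1 ⟨isCompact_univ, isOpen_univ⟩
  haveI := hsf.to_subtype
  have hU : (⨆ i : s, (i.1 : X.Opens)) = ⊤ := by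
    ext1
    simpa [Set.iUnion_subtype] using hs.symm
  have hiso : IsIso (pushoutSection H hUST (le ⊤)
      (show (⊤ : P.Opens) = g ⁻¹ᵁ ⊤ ⊓ iY ⁻¹ᵁ ⊤ by simp)) :=
    isIso_pushoutSection_of_iSup_eq H hUST _ _ (fun i : s => (i.1 : X.Opens)) hU
      (fun i => haff _ i.1.2) (fun i j => hmono _) hflat
  have h := (isIso_pushoutSection_iff H hUST _ _).1 hiso
  simpa [Scheme.Hom.app_eq_appLE] using h

end Groth.Agent.MiscTwoH99.GammaProd
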