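import Groth.Agent.MiscTwoH99.GammaProd.Basic

/-! Gluing: a family which is universal on affine test objects is universal on all of them. -/

set_option autoImplicit false
universe u

open CategoryTheory MonoidalCategory CartesianMonoidalCategory CategoryTheory.Limits AlgebraicGeometry

namespace Groth.Agent.MiscTwoH99.GammaProd

variable {S : Scheme.{u}} (X : Over S)

theorem hom_ext_cover {Z : Over S} {T : Over S} (𝒰 : T.left.OpenCover) (a b : X ⊗ T ⟶ Z)
    (h : ∀ i, (X ◁ (Over.homMk (𝒰.f i) : Over.mk (𝒰.f i ≫ T.hom) ⟶ T)) ≫ a =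
      (X ◁ (Over.homMk (𝒰.f i) : Over.mk (𝒰.f i ≫ T.hom) ⟶ T)) ≫ b) : a = b := by
  refine Over.OverMorphism.ext (Scheme.Cover.hom_ext
    (Scheme.Pullback.openCoverOfRight 𝒰 X.hom T.hom) _ _ fun i => ?_)
  have e : (X ◁ (Over.homMk (𝒰.f i) : Over.mk (𝒰.f i ≫ T.hom) ⟶ T)).left =
      (Scheme.Pullback.openCoverOfRight 𝒰 X.hom T.hom).f i := by
    apply pullback.hom_ext
    · rw [Over.whiskerLeft_left_fst]
      exact ((pullback.lift_fst _ _ _).trans (Category.comp_id _)).symm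
    · rw [Over.whiskerLeft_left_snd]
      exact (pullback.lift_snd _ _ _).symm
  have h1 := congrArg (fun k => k.left) (h i)
  simp only [Over.comp_left, e] at h1
  exact h1

theorem bijective_of_affine {Z M : Over S} (ev : X ⊗ M ⟶ Z)
    (h : ∀ T : Over S, IsAffine T.left → Function.Bijective fun v : T ⟶ M => (X ◁ v) ≫ ev)
    (T : Over S) : Function.Bijective fun v : T ⟶ M => (X ◁ v) ≫ ev := by
  have hinj : ∀ T : Over S, Function.Injective fun v : T ⟶ M => (X ◁ v) ≫ ev := by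
    intro T a b hab
    refine Over.OverMorphism.ext (Scheme.Cover.hom_ext T.left.affineCover _ _ fun i => ?_)
    let j : Over.mk (T.left.affineCover.f i ≫ T.hom) ⟶ T := Over.homMk (T.left.affineCover.f i) rfl
    have e : j ≫ a = j ≫ b := by
      refine (h (Over.mk (T.left.affineCover.f i ≫ T.hom))
        (inferInstanceAs (IsAffine (T.left.affineCover.X i)))).1 ?_
      show (X ◁ (j ≫ a)) ≫ ev = (X ◁ (j ≫ b)) ≫ ev
      rw [MonoidalCategory.whiskerLeft_comp, MonoidalCategory.whiskerLeft_comp, Category.assoc,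
        Category.assoc]
      exact congrArg ((X ◁ j) ≫ ·) hab
    exact congrArg (fun k => k.left) e
  refine ⟨hinj T, fun f => ?_⟩
  let 𝒰 := T.left.affineCover
  let Ti : 𝒰.I₀ → Over S := fun i => Over.mk (𝒰.f i ≫ T.hom)
  let j : ∀ i, Ti i ⟶ T := fun i => Over.homMk (𝒰.f i) rfl
  choose a ha using fun i =>
    (h (Ti i) (inferInstanceAs (IsAffine (T.left.affineCover.X i)))).2 ((X ◁ j i) ≫ f)
  have hov : ∀ i i', pullback.fst (𝒰.f i) (𝒰.f i') ≫ (a i).left =
      pullback.snd (𝒰.f i) (𝒰.f i') ≫ (a i').left := by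
    intro i i'
    let V : Over S := Over.mk (pullback.fst (𝒰.f i) (𝒰.f i') ≫ 𝒰.f i ≫ T.hom)
    let p₁ : V ⟶ Ti i := Over.homMk (pullback.fst (𝒰.f i) (𝒰.f i')) rfl
    let p₂ : V ⟶ Ti i' := Over.homMk (pullback.snd (𝒰.f i) (𝒰.f i')) (by
      show _ ≫ 𝒰.f i' ≫ T.hom = _
      rw [← pullback.condition_assoc]
      rfl)
    have hp : p₁ ≫ j i = p₂ ≫ j i' := Over.OverMorphism.ext pullback.condition
    have : p₁ ≫ a i = p₂ ≫ a i' := hinj V (by
      show (X ◁ (p₁ ≫ a i)) ≫ ev = (X ◁ (p₂ ≫ a i')) ≫ ev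
      rw [MonoidalCategory.whiskerLeft_comp, MonoidalCategory.whiskerLeft_comp, Category.assoc,
        Category.assoc, show (X ◁ a i) ≫ ev = _ from ha i, show (X ◁ a i') ≫ ev = _ from ha i',
        ← MonoidalCategory.whiskerLeft_comp_assoc, ← MonoidalCategory.whiskerLeft_comp_assoc, hp])
    exact congrArg (fun k => k.left) this
  let v : T ⟶ M := Over.homMk (𝒰.glueMorphisms (fun i => (a i).left) hov) (by
    refine Scheme.Cover.hom_ext 𝒰 _ _ fun i => ?_
    rw [Scheme.Cover.ι_glueMorphisms_assoc]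
    exact Over.w (a i))
  have e : ∀ i, j i ≫ v = a i := fun i =>
    Over.OverMorphism.ext (Scheme.Cover.ι_glueMorphisms 𝒰 _ hov i)
  refine ⟨v, hom_ext_cover X 𝒰 _ _ fun i => ?_⟩
  show (X ◁ j i) ≫ (X ◁ v) ≫ ev = (X ◁ j i) ≫ f
  rw [← MonoidalCategory.whiskerLeft_comp_assoc, e, ← ha i]

end Groth.Agent.MiscTwoH99.GammaProd
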